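import Mathlib.GroupTheory.SpecificGroups.Alternating
import Mathlib.Tactic

/-! Carmichael's presentation of the alternating groups, in the form of an injectivity statement
for a homomorphism to the symmetric group. -/

set_option autoImplicit false
set_option linter.unusedVariables false

namespace Cfsg.Agent.SymAlt

open Equiv Equiv.Perm Subgroup

variable {α : Type*} [DecidableEq α]

/-- The 3-cycle `u ↦ i ↦ v ↦ u`. -/
def c3 (u v i : α) : Perm α := swap u v * swap u i

theorem c3_apply_of_ne {u v i x : α} (h1 : x ≠ u) (h2 : x ≠ v) (h3 : x ≠ i) : c3 u v i x = x := by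
  rw [c3, Perm.mul_apply, swap_apply_of_ne_of_ne h1 h3, swap_apply_of_ne_of_ne h1 h2]

theorem c3_apply_self (u v i : α) : c3 u v i i = v := by
  rw [c3, Perm.mul_apply, swap_apply_right, swap_apply_left]

theorem c3_apply_left {u v i : α} (h1 : i ≠ u) (h2 : i ≠ v) : c3 u v i u = i := by
  rw [c3, Perm.mul_apply, swap_apply_left, swap_apply_of_ne_of_ne h1 h2]

theorem c3_apply_right {u v i : α} (huv : u ≠ v) (h2 : i ≠ v) : c3 u v i v = u := by
  rw [c3, Perm.mul_apply, swap_apply_of_ne_of_ne huv.symm h2.symm, swap_apply_right]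

theorem conj_c3 (g : Perm α) (u v i : α) : g * c3 u v i * g⁻¹ = c3 (g u) (g v) (g i) := by
  rw [c3, c3, swap_apply_apply, swap_apply_apply]
  group

theorem c3_cube {u v i : α} (huv : u ≠ v) (h1 : i ≠ u) (h2 : i ≠ v) : c3 u v i ^ 3 = 1 := by
  ext x
  simp only [pow_succ, pow_zero, one_mul, Perm.mul_apply, c3, swap_apply_def, Perm.one_apply]
  grind

theorem c3_mul_sq {u v i j : α} (huv : u ≠ v) (h1 : i ≠ u) (h2 : i ≠ v) (h3 : j ≠ u) (h4 : j ≠ v)
    (hij : i ≠ j) : (c3 u v i * c3 u v j) ^ 2 = 1 := by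
  ext x
  simp only [pow_succ, pow_zero, one_mul, Perm.mul_apply, c3, swap_apply_def, Perm.one_apply]
  grind

theorem c3_swap_eq_inv {u v i : α} (huv : u ≠ v) (h1 : i ≠ u) (h2 : i ≠ v) :
    c3 v u i = (c3 u v i)⁻¹ := by
  rw [eq_inv_iff_mul_eq_one]
  ext x
  simp only [Perm.mul_apply, c3, swap_apply_def, Perm.one_apply]
  grind

theorem sign_c3 [Fintype α] {u v i : α} (huv : u ≠ v) (h1 : i ≠ u) : sign (c3 u v i) = 1 := by
  rw [c3, Perm.sign_mul, sign_swap huv, sign_swap h1.symm]
  rfl

theorem isThreeCycle_c3 [Fintype α] {u v i : α} (huv : u ≠ v) (h1 : i ≠ u) (h2 : i ≠ v) :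
    IsThreeCycle (c3 u v i) :=
  isThreeCycle_swap_mul_swap_same huv h1.symm h2.symm

section coset

variable {G : Type*} [Group G]

theorem carm_braid {a b : G} (h : (a * b) ^ 2 = 1) : a * b * a = b⁻¹ := by
  rw [eq_inv_iff_mul_eq_one, ← h, pow_two]
  group

theorem carm_inv {a : G} (h : a ^ 3 = 1) : a⁻¹ = a * a := by
  rw [inv_eq_iff_mul_eq_one, ← h, pow_three]

/-- The coset enumeration behind Carmichael's presentation. -/
theorem carm_cosets {ι : Type*} (x : ι → G) (S : Set ι) (n : ι) (hn : n ∉ S)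
    (h3 : ∀ i ∈ insert n S, x i ^ 3 = 1)
    (h2 : ∀ i ∈ insert n S, ∀ j ∈ insert n S, i ≠ j → (x i * x j) ^ 2 = 1)
    {g : G} (hg : g ∈ closure (x '' insert n S)) :
    g ∈ closure (x '' S) ∨ (x n)⁻¹ * g ∈ closure (x '' S) ∨ x n * g ∈ closure (x '' S) ∨
      ∃ j ∈ S, x n * (x j)⁻¹ * g ∈ closure (x '' S) := by
  set H := closure (x '' S) with hH
  have hx : ∀ j ∈ S, x j ∈ H := fun j hj => subset_closure ⟨j, hj, rfl⟩
  have hne : ∀ j ∈ S, j ≠ n := fun j hj h => hn (h ▸ hj)
  have n3 := carm_inv (h3 n (Set.mem_insert _ _))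
  have j3 : ∀ j ∈ S, (x j)⁻¹ = x j * x j := fun j hj => carm_inv (h3 j (Set.mem_insert_of_mem _ hj))
  have b1 : ∀ j ∈ S, x n * x j * x n = (x j)⁻¹ := fun j hj =>
    carm_braid (h2 n (Set.mem_insert _ _) j (Set.mem_insert_of_mem _ hj) (hne j hj).symm)
  have b2 : ∀ j ∈ S, x j * x n * x j = (x n)⁻¹ := fun j hj =>
    carm_braid (h2 j (Set.mem_insert_of_mem _ hj) n (Set.mem_insert _ _) (hne j hj))
  have b3 : ∀ j ∈ S, ∀ k ∈ S, j ≠ k → x j * x k * x j = (x k)⁻¹ := fun j hj k hk hjk =>
    carm_braid (h2 j (Set.mem_insert_of_mem _ hj) k (Set.mem_insert_of_mem _ hk) hjk)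
  have step : ∀ k ∈ insert n S, ∀ g : G,
      (g ∈ H ∨ (x n)⁻¹ * g ∈ H ∨ x n * g ∈ H ∨ ∃ j ∈ S, x n * (x j)⁻¹ * g ∈ H) →
      (x k * g ∈ H ∨ (x n)⁻¹ * (x k * g) ∈ H ∨ x n * (x k * g) ∈ H ∨
        ∃ j ∈ S, x n * (x j)⁻¹ * (x k * g) ∈ H) := by
    intro k hk g hg
    rcases hk with rfl | hk
    · rcases hg with h | h | h | ⟨j, hj, h⟩
      · right; left; simpa using h
      · right; right; left
        rwa [n3, mul_assoc] at h
      · left; exact h
      · right; right; right
        refine ⟨j, hj, ?_⟩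
        have e : x k * (x j)⁻¹ * (x k * g) = (x j)⁻¹ * (x k * (x j)⁻¹ * g) := by
          have e1 : x k * (x j)⁻¹ * x k * x j * (x k)⁻¹ = (x j)⁻¹ := by
            calc x k * (x j)⁻¹ * x k * x j * (x k)⁻¹
                = x k * x j * (x j * x k * x j) * (x k)⁻¹ := by rw [j3 j hj]; group
              _ = x k * x j * ((x k)⁻¹ * (x k)⁻¹) := by rw [b2 j hj]; group
              _ = x k * x j * x k := by
                  rw [← mul_inv_rev, ← n3, inv_inv]
              _ = (x j)⁻¹ := b1 j hj
          nth_rewrite 2 [← e1]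
          group
        rw [e]
        exact H.mul_mem (H.inv_mem (hx j hj)) h
    · rcases hg with h | h | h | ⟨j, hj, h⟩
      · left; exact H.mul_mem (hx k hk) h
      · right; right; left
        have e : x n * (x k * g) = (x k)⁻¹ * ((x n)⁻¹ * g) := by
          rw [← b1 k hk]; group
        rw [e]
        exact H.mul_mem (H.inv_mem (hx k hk)) h
      · right; right; right
        exact ⟨k, hk, by simpa [mul_assoc] using h⟩
      · by_cases hjk : j = k
        · subst hjk
          right; left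
          have e : (x n)⁻¹ * (x j * g) = x j * (x n * (x j)⁻¹ * g) := by
            rw [← b2 j hj, j3 j hj]; group
          rw [e]
          exact H.mul_mem (hx j hj) h
        · right; right; right
          refine ⟨j, hj, ?_⟩
          have e : x n * (x j)⁻¹ * (x k * g) = ((x j)⁻¹ * x k) * (x n * (x j)⁻¹ * g) := by
            have e1 : x n * (x j)⁻¹ * x k * x j * (x n)⁻¹ = (x j)⁻¹ * x k := by
              calc x n * (x j)⁻¹ * x k * x j * (x n)⁻¹
                  = x n * x j * (x j * x k * x j) * (x n)⁻¹ := by rw [j3 j hj]; group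
                _ = x n * x j * (x k)⁻¹ * (x n)⁻¹ := by rw [b3 j hj k hk hjk]
                _ = x n * x j * (x n * x k * x n) * (x n)⁻¹ := by rw [b1 k hk]
                _ = (x n * x j * x n) * x k := by group
                _ = (x j)⁻¹ * x k := by rw [b1 j hj]
            rw [← e1]
            group
          rw [e]
          exact H.mul_mem (H.mul_mem (H.inv_mem (hx j hj)) (hx k hk)) h
  induction hg using closure_induction_left with
  | one => left; exact H.one_mem
  | mul_left y hy g _ ih =>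
    obtain ⟨k, hk, rfl⟩ := hy
    exact step k hk g ih
  | inv_mul_cancel y hy g _ ih =>
    obtain ⟨k, hk, rfl⟩ := hy
    rw [carm_inv (h3 k hk), mul_assoc]
    exact step k hk _ (step k hk g ih)

theorem carm_fix (π : G →* Perm α) {u v : α} (x : α → G) (S : Set α)
    (hπ : ∀ i ∈ S, π (x i) = c3 u v i) {g : G} (hg : g ∈ closure (x '' S)) {y : α}
    (h1 : y ≠ u) (h2 : y ≠ v) (h3 : y ∉ S) : π g y = y := by
  induction hg using closure_induction with
  | mem g hg =>
    obtain ⟨i, hi, rfl⟩ := hg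
    rw [hπ i hi, c3_apply_of_ne h1 h2 (fun h => h3 (h ▸ hi))]
  | one => simp
  | mul a b _ _ ha hb => rw [map_mul, Perm.mul_apply, hb, ha]
  | inv a _ ha =>
    rw [map_inv, Perm.inv_eq_iff_eq, ha]

theorem carm_sign [Fintype α] (π : G →* Perm α) {u v : α} (huv : u ≠ v) (x : α → G) (S : Set α)
    (hu : u ∉ S) (hπ : ∀ i ∈ S, π (x i) = c3 u v i) {g : G} (hg : g ∈ closure (x '' S)) :
    sign (π g) = 1 := by
  induction hg using closure_induction with
  | mem g hg =>
    obtain ⟨i, hi, rfl⟩ := hg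
    rw [hπ i hi, sign_c3 huv (fun h => hu (h ▸ hi))]
  | one => simp
  | mul a b _ _ ha hb => rw [map_mul, Perm.sign_mul, hb, ha, mul_one]
  | inv a _ ha => rw [map_inv, Perm.sign_inv, ha]

/-- Carmichael's theorem: elements satisfying the relations and lying over the standard 3-cycles
generate a subgroup on which the projection is injective. -/
theorem carmichael (π : G →* Perm α) {u v : α} (huv : u ≠ v) (x : α → G) (S : Set α)
    (hS : S.Finite) (hu : u ∉ S) (hv : v ∉ S) (hπ : ∀ i ∈ S, π (x i) = c3 u v i)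
    (h3 : ∀ i ∈ S, x i ^ 3 = 1) (h2 : ∀ i ∈ S, ∀ j ∈ S, i ≠ j → (x i * x j) ^ 2 = 1)
    {g : G} (hg : g ∈ closure (x '' S)) (h1 : π g = 1) : g = 1 := by
  induction S, hS using Set.Finite.induction_on generalizing g with
  | empty => simpa using hg
  | @insert n S hn hS ih =>
    have hu' : u ∉ S := fun h => hu (Set.mem_insert_of_mem _ h)
    have hv' : v ∉ S := fun h => hv (Set.mem_insert_of_mem _ h)
    have hnu : n ≠ u := fun h => hu (h ▸ Set.mem_insert _ _)
    have hnv : n ≠ v := fun h => hv (h ▸ Set.mem_insert _ _)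
    have hπ' : ∀ i ∈ S, π (x i) = c3 u v i := fun i hi => hπ i (Set.mem_insert_of_mem _ hi)
    have hπn := hπ n (Set.mem_insert _ _)
    rcases carm_cosets x S n hn h3 h2 hg with h | h | h | ⟨j, hj, h⟩
    · exact ih hu' hv' hπ' (fun i hi => h3 i (Set.mem_insert_of_mem _ hi))
        (fun i hi j hj => h2 i (Set.mem_insert_of_mem _ hi) j (Set.mem_insert_of_mem _ hj)) h h1
    · have := carm_fix π x S hπ' h hnu hnv hn
      rw [map_mul, h1, mul_one, map_inv, Perm.inv_eq_iff_eq, hπn, c3_apply_self] at this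
      exact absurd this hnv
    · have := carm_fix π x S hπ' h hnu hnv hn
      rw [map_mul, h1, mul_one, hπn, c3_apply_self] at this
      exact absurd this.symm hnv
    · have := carm_fix π x S hπ' h hnu hnv hn
      have hjn : n ≠ j := fun h => hn (h ▸ hj)
      have e : (c3 u v j)⁻¹ n = n := by
        rw [Perm.inv_eq_iff_eq, c3_apply_of_ne hnu hnv hjn]
      rw [map_mul, h1, mul_one, map_mul, map_inv, hπn, hπ' j hj, Perm.mul_apply, e,
        c3_apply_self] at this
      exact absurd this.symm hnv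

theorem carmichael_eq (π : G →* Perm α) {u v : α} (huv : u ≠ v) (x : α → G) (S : Set α)
    (hS : S.Finite) (hu : u ∉ S) (hv : v ∉ S) (hπ : ∀ i ∈ S, π (x i) = c3 u v i)
    (h3 : ∀ i ∈ S, x i ^ 3 = 1) (h2 : ∀ i ∈ S, ∀ j ∈ S, i ≠ j → (x i * x j) ^ 2 = 1)
    {g h : G} (hg : g ∈ closure (x '' S)) (hh : h ∈ closure (x '' S)) (h1 : π g = π h) :
    g = h := by
  rw [← mul_inv_eq_one]
  exact carmichael π huv x S hS hu hv hπ h3 h2 (mul_mem hg (inv_mem hh))
    (by rw [map_mul, map_inv, h1, mul_inv_cancel])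

end coset

/-- The standard 3-cycles generate the alternating group on their joint support. -/
theorem mem_of_c3_mem [Fintype α] (H : Subgroup (Perm α)) {u v : α} (huv : u ≠ v) (S : Set α)
    (h : ∀ i ∈ S, i ≠ u → i ≠ v → c3 u v i ∈ H) (σ : Perm α) (hs : sign σ = 1)
    (hσ : ∀ y, y ≠ u → y ≠ v → y ∉ S → σ y = y) : σ ∈ H := by
  have h1 : ∀ x, x ≠ u → (x = v ∨ x ∈ S) → swap u v * swap u x ∈ H := by
    intro x hx hx'
    by_cases hb : x = v
    · rw [hb, swap_mul_self]; exact H.one_mem
    · exact h x (hx'.resolve_left hb) hx hb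
  have h2 : ∀ a b, a ≠ b → (a = u ∨ a = v ∨ a ∈ S) → (b = u ∨ b = v ∨ b ∈ S) →
      swap u v * swap a b ∈ H := by
    intro a b hab ha hb
    by_cases hu : a = u
    · subst hu; exact h1 b hab.symm (hb.resolve_left hab.symm)
    by_cases hv : b = u
    · subst hv; rw [swap_comm a b]; exact h1 a hu (ha.resolve_left hu)
    have e : swap a b = swap u a * swap u b * swap u a := by
      rw [swap_comm u b, swap_mul_swap_mul_swap hv hab.symm]
    have := H.mul_mem (H.mul_mem (h1 a hu (ha.resolve_left hu))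
      (H.inv_mem (h1 b hv (hb.resolve_left hv)))) (h1 a hu (ha.resolve_left hu))
    convert this using 1
    rw [e, mul_inv_rev, swap_inv, swap_inv]
    simp only [mul_assoc, swap_mul_self_mul]
  have key : ∀ m : ℕ, ∀ σ : Perm α, σ.support.card ≤ m →
      (∀ y, y ≠ u → y ≠ v → y ∉ S → σ y = y) →
      (sign σ = 1 → σ ∈ H) ∧ (sign σ = -1 → swap u v * σ ∈ H) := by
    intro m
    induction m with
    | zero =>
      intro σ h0 _
      rw [Nat.le_zero, Finset.card_eq_zero, support_eq_empty_iff] at h0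
      subst h0
      exact ⟨fun _ => H.one_mem, fun h => absurd h (by simp)⟩
    | succ m ih =>
      intro σ h0 hσ
      by_cases h1' : σ = 1
      · subst h1'
        exact ⟨fun _ => H.one_mem, fun h => absurd h (by simp)⟩
      obtain ⟨a, ha⟩ : ∃ a, σ a ≠ a := by
        by_contra hh
        push Not at hh
        exact h1' (Equiv.ext hh)
      have hin : ∀ y, σ y ≠ y → (y = u ∨ y = v ∨ y ∈ S) := by
        intro y hy
        by_contra hh
        push Not at hh
        exact hy (hσ y hh.1 hh.2.1 hh.2.2)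
      have hlt := card_support_swap_mul ha
      have ha1 := hin a ha
      have ha2 := hin (σ a) (fun h => ha (σ.injective h))
      have h3 := h2 a (σ a) ha.symm ha1 ha2
      have ih' := ih (swap a (σ a) * σ) (by omega) (by
        intro y hy1 hy2 hy3
        rw [Perm.mul_apply, hσ y hy1 hy2 hy3, swap_apply_of_ne_of_ne]
        · rintro rfl; tauto
        · rintro rfl; tauto)
      rw [Perm.sign_mul, sign_swap ha.symm] at ih'
      constructor
      · intro hs
        have := H.mul_mem (H.inv_mem h3) (ih'.2 (by rw [hs]; rfl))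
        simpa [mul_assoc] using this
      · intro hs
        have := H.mul_mem h3 (ih'.1 (by rw [hs]; rfl))
        simpa [mul_assoc] using this
  exact (key _ σ le_rfl hσ).1 hs

theorem carm_surj [Fintype α] {G : Type*} [Group G] (π : G →* Perm α) {u v : α} (huv : u ≠ v)
    (x : α → G) (S : Set α) (hπ : ∀ i ∈ S, π (x i) = c3 u v i) (σ : Perm α) (hs : sign σ = 1)
    (hσ : ∀ y, y ≠ u → y ≠ v → y ∉ S → σ y = y) : ∃ g ∈ closure (x '' S), π g = σ :=
  mem_of_c3_mem ((closure (x '' S)).map π) huv S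
    (fun i hi _ _ => ⟨x i, subset_closure ⟨i, hi, rfl⟩, hπ i hi⟩) σ hs hσ

end Cfsg.Agent.SymAlt
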