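import Mathlib.GroupTheory.SpecificGroups.Alternating
import Mathlib.GroupTheory.Perm.Cycle.PossibleTypes
import Mathlib.Algebra.GCDMonoid.Multiset
import Mathlib.Tactic

/-! Element orders in alternating groups, through cycle types. -/

set_option autoImplicit false

namespace Cfsg.Agent.SymAlt

open Equiv Equiv.Perm

theorem mem_range_orderOf_alt_iff (n m : ℕ) :
    m ∈ Set.range (orderOf : alternatingGroup (Fin n) → ℕ) ↔
      ∃ c : Multiset ℕ, c.sum ≤ n ∧ (∀ a ∈ c, 2 ≤ a) ∧ Even (c.sum + c.card) ∧ c.lcm = m := by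
  constructor
  · rintro ⟨⟨g, hg⟩, rfl⟩
    refine ⟨g.cycleType, ?_, fun a ha => two_le_of_mem_cycleType ha, ?_, ?_⟩
    · simpa using g.sum_cycleType_le
    · rw [mem_alternatingGroup, sign_of_cycleType] at hg
      exact (neg_one_pow_eq_one_iff_even (by decide)).1 hg
    · rw [lcm_cycleType, Subgroup.orderOf_mk]
  · rintro ⟨c, h1, h2, h3, rfl⟩
    obtain ⟨g, hg⟩ := (Equiv.Perm.exists_with_cycleType_iff (α := Fin n) (m := c)).2
      ⟨by simpa using h1, h2⟩
    refine ⟨⟨g, ?_⟩, ?_⟩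
    · rw [mem_alternatingGroup, sign_of_cycleType, hg]
      exact h3.neg_one_pow
    · rw [Subgroup.orderOf_mk, ← lcm_cycleType, hg]

theorem exists_mem_dvd_of_prime_dvd_lcm {p : ℕ} (hp : p.Prime) (c : Multiset ℕ)
    (h : p ∣ c.lcm) : ∃ a ∈ c, p ∣ a := by
  induction c using Multiset.induction_on with
  | empty =>
    simp only [Multiset.lcm_zero, Nat.dvd_one] at h
    exact absurd h hp.ne_one
  | cons a s ih =>
    rw [Multiset.lcm_cons] at h
    have h' : p ∣ a * s.lcm := h.trans (lcm_dvd_mul a s.lcm)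
    rcases (Nat.Prime.dvd_mul hp).1 h' with h1 | h1
    · exact ⟨a, Multiset.mem_cons_self _ _, h1⟩
    · obtain ⟨b, hb, hb'⟩ := ih h1
      exact ⟨b, Multiset.mem_cons_of_mem hb, hb'⟩

theorem add_le_sum_of_ne {c : Multiset ℕ} {a b : ℕ} (ha : a ∈ c) (hb : b ∈ c) (hab : a ≠ b) :
    a + b ≤ c.sum := by
  obtain ⟨s, rfl⟩ := Multiset.exists_cons_of_mem ha
  rcases Multiset.mem_cons.1 hb with h | h
  · exact absurd h.symm hab
  · rw [Multiset.sum_cons]
    have := Multiset.single_le_sum (fun x _ => Nat.zero_le x) b h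
    omega

end Cfsg.Agent.SymAlt
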