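import Mathlib.GroupTheory.Sylow
import Mathlib.GroupTheory.SpecificGroups.Alternating
import Mathlib.GroupTheory.Perm.Cycle.PossibleTypes
import Mathlib.Tactic

/-! Automizers of abelian Sylow subgroups: a real element of odd order forces even order. -/

set_option autoImplicit false

namespace Cfsg.Agent.SymAlt

open Subgroup

/-- Every element of `p`-power order is conjugate into a given Sylow `p`-subgroup. -/
theorem exists_conj_mem_sylow {G : Type*} [Group G] [Finite G] {p : ℕ} [Fact p.Prime]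
    (P : Sylow p G) (x : G) (k : ℕ) (hx : x ^ (p ^ k) = 1) : ∃ g : G, g * x * g⁻¹ ∈ P := by
  have h1 : IsPGroup p (zpowers x) := by
    rintro ⟨y, hy⟩
    obtain ⟨m, rfl⟩ := mem_zpowers_iff.1 hy
    refine ⟨k, Subtype.ext ?_⟩
    simp only [SubmonoidClass.mk_pow, OneMemClass.coe_one]
    rw [← zpow_natCast, ← zpow_mul, mul_comm, zpow_mul, zpow_natCast, hx, one_zpow]
  obtain ⟨Q, hQ⟩ := h1.exists_le_sylow
  obtain ⟨g, hg⟩ := MulAction.exists_smul_eq G Q P
  refine ⟨g, ?_⟩
  rw [← hg]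
  exact ⟨x, hQ (mem_zpowers x), rfl⟩

theorem two_dvd_automizer {G : Type*} [Group G] [Finite G] {p : ℕ} [Fact p.Prime]
    (P : Sylow p G) (hP : IsMulCommutative (P : Subgroup G)) (x : G) (hx : x ∈ P)
    (hne : x⁻¹ ≠ x) (hc : IsConj x x⁻¹) :
    2 ∣ ((centralizer ((P : Subgroup G) : Set G)).subgroupOf
      (normalizer ((P : Subgroup G) : Set G))).index := by
  obtain ⟨c, hc⟩ := isConj_iff.1 hc
  have hP' : IsMulCommutative P := hP
  obtain ⟨m, hm, hm'⟩ := P.conj_eq_normalizer_conj_of_mem x c⁻¹ hx (by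
    rw [inv_inv, hc]; exact inv_mem hx)
  rw [inv_inv, hc] at hm'
  by_contra hodd
  set K := (centralizer ((P : Subgroup G) : Set G)).subgroupOf
      (normalizer ((P : Subgroup G) : Set G)) with hK
  have hKn : K.Normal := by
    rw [hK, ← normalizerMonoidHom_ker]
    infer_instance
  have h1 : (⟨m, hm⟩ : normalizer ((P : Subgroup G) : Set G)) ^ K.index ∈ K :=
    K.pow_index_mem _
  rw [hK, mem_subgroupOf, ← hK] at h1
  have h2 : x * m ^ K.index = m ^ K.index * x := h1 x hx
  have h3 : ∀ j : ℕ, x * m ^ (2 * j + 1) = m ^ (2 * j + 1) * x⁻¹ := by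
    have a1 : x * m = m * x⁻¹ := by rw [hm']; group
    have a2 : x⁻¹ * m = m * x := by
      have : x = m⁻¹ * x⁻¹ * m := by
        have := congrArg (·⁻¹) hm'
        simp only [inv_inv, mul_inv_rev] at this
        rw [mul_assoc]; exact this
      conv_rhs => rw [this]
      group
    intro j
    induction j with
    | zero => simpa using a1
    | succ j ih =>
      rw [show 2 * (j + 1) + 1 = (2 * j + 1) + 1 + 1 by ring, pow_succ, pow_succ, ← mul_assoc,
        ← mul_assoc, ih, mul_assoc _ x⁻¹, a2, ← mul_assoc, mul_assoc _ x, a1, ← mul_assoc]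
  obtain ⟨j, hj⟩ : ∃ j, K.index = 2 * j + 1 := ⟨K.index / 2, by omega⟩
  rw [hj, h3] at h2
  exact hne (mul_left_cancel h2)

theorem inv_ne_self_of_orderOf_eq {G : Type*} [Group G] {p : ℕ} (hp : p.Prime) (hp2 : p ≠ 2)
    {x : G} (hx : orderOf x = p) : x⁻¹ ≠ x := by
  intro h
  have h2 : x ^ 2 = 1 := by
    rw [pow_two]
    nth_rewrite 1 [← h]
    exact inv_mul_cancel x
  have := orderOf_dvd_of_pow_eq_one h2
  rw [hx] at this
  exact hp2 ((Nat.prime_dvd_prime_iff_eq hp Nat.prime_two).1 this)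

end Cfsg.Agent.SymAlt
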