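import Mathlib.GroupTheory.PresentedGroup
import Mathlib.NumberTheory.Bertrand
import Mathlib.Tactic

/-! Counting relations in presentations, Tietze transformations, and a sharper form of
Bertrand's postulate. -/

set_option autoImplicit false

namespace Cfsg.Agent.SymAlt

open Subgroup

/-- The relations among the elements `f x` are consequences of at most `r` of them. -/
def HasRels {X H : Type*} [Group H] (f : X → H) (r : ℕ) : Prop :=
  ∃ rels : Finset (FreeGroup X), rels.card ≤ r ∧
    (FreeGroup.lift f).ker = normalClosure (rels : Set (FreeGroup X))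

variable {X Y H : Type*} [Group H]

theorem HasRels.mono {f : X → H} {r s : ℕ} (h : HasRels f r) (hrs : r ≤ s) : HasRels f s := by
  obtain ⟨rels, h1, h2⟩ := h
  exact ⟨rels, h1.trans hrs, h2⟩

theorem hasRels_of_injective (f : X → H) (rels : List (FreeGroup X))
    (h1 : ∀ w ∈ rels, FreeGroup.lift f w = 1)
    (h2 : ∀ π : PresentedGroup {w | w ∈ rels} →* H, (∀ x, π (PresentedGroup.of x) = f x) →
      ∀ g, π g = 1 → g = 1) : HasRels f rels.length := by
  classical
  refine ⟨rels.toFinset, rels.toFinset_card_le, le_antisymm ?_ ?_⟩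
  · intro w hw
    have h3 : ∀ r ∈ {w | w ∈ rels}, FreeGroup.lift f r = 1 := h1
    have h4 := h2 (PresentedGroup.toGroup h3) (fun x => PresentedGroup.toGroup.of h3)
      (PresentedGroup.mk _ w) hw
    rw [PresentedGroup.mk_eq_one_iff] at h4
    convert h4
    ext; simp
  · apply normalClosure_le_normal
    intro w hw
    exact h1 w (by simpa using hw)

theorem HasRels.exists_equiv {f : X → H} {r : ℕ} (h : HasRels f r)
    (hf : closure (Set.range f) = ⊤) :
    ∃ rels : Finset (FreeGroup X), rels.card ≤ r ∧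
      ∃ e : PresentedGroup (rels : Set (FreeGroup X)) ≃* H, ∀ x, e (PresentedGroup.of x) = f x := by
  obtain ⟨rels, h1, h2⟩ := h
  have h3 : ∀ w ∈ (rels : Set (FreeGroup X)), FreeGroup.lift f w = 1 := by
    intro w hw
    have : w ∈ (FreeGroup.lift f).ker := h2 ▸ subset_normalClosure hw
    exact this
  refine ⟨rels, h1, MulEquiv.ofBijective (PresentedGroup.toGroup h3) ⟨?_, ?_⟩,
    fun x => PresentedGroup.toGroup.of h3⟩
  · rw [injective_iff_map_eq_one]
    intro g hg
    obtain ⟨w, rfl⟩ := PresentedGroup.mk_surjective _ g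
    rw [PresentedGroup.mk_eq_one_iff, ← h2]
    exact hg
  · rw [← MonoidHom.range_eq_top, eq_top_iff, ← hf, closure_le]
    rintro _ ⟨x, rfl⟩
    exact ⟨PresentedGroup.of x, PresentedGroup.toGroup.of h3⟩

theorem HasRels.of_comp {K : Type*} [Group K] (φ : K →* H) (hφ : Function.Injective φ)
    {f : X → K} {r : ℕ} (h : HasRels (φ ∘ f) r) : HasRels f r := by
  obtain ⟨rels, h1, h2⟩ := h
  refine ⟨rels, h1, ?_⟩
  rw [← h2]
  have : FreeGroup.lift (φ ∘ f) = φ.comp (FreeGroup.lift f) := by
    ext x; simp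
  rw [this, MonoidHom.ker_comp_of_injective _ _ hφ]

theorem HasRels.comp {K : Type*} [Group K] (φ : K →* H) (hφ : Function.Injective φ)
    {f : X → K} {r : ℕ} (h : HasRels f r) : HasRels (φ ∘ f) r := by
  obtain ⟨rels, h1, h2⟩ := h
  refine ⟨rels, h1, ?_⟩
  rw [← h2]
  have : FreeGroup.lift (φ ∘ f) = φ.comp (FreeGroup.lift f) := by
    ext x; simp
  rw [this, MonoidHom.ker_comp_of_injective _ _ hφ]

theorem HasRels.tietze_aux {f : X → H} {g : Y → H} {r : ℕ} (h : HasRels f r)
    (a : FreeGroup X →* FreeGroup Y) (b : FreeGroup Y →* FreeGroup X)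
    (ha : (FreeGroup.lift g).comp a = FreeGroup.lift f)
    (hb : (FreeGroup.lift f).comp b = FreeGroup.lift g) (Y₀ : Finset Y)
    (h0 : ∀ y, y ∉ Y₀ → a (b (FreeGroup.of y)) = FreeGroup.of y) : HasRels g (r + Y₀.card) := by
  classical
  obtain ⟨rels, h1, h2⟩ := h
  have ha' : ∀ w, FreeGroup.lift g (a w) = FreeGroup.lift f w := fun w => DFunLike.congr_fun ha w
  have hb' : ∀ w, FreeGroup.lift f (b w) = FreeGroup.lift g w := fun w => DFunLike.congr_fun hb w
  refine ⟨rels.image a ∪ Y₀.image (fun y => (FreeGroup.of y)⁻¹ * a (b (FreeGroup.of y))), ?_,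
    le_antisymm ?_ ?_⟩
  · exact (Finset.card_union_le _ _).trans
      (Nat.add_le_add (Finset.card_image_le.trans h1) Finset.card_image_le)
  · set N := normalClosure ((rels.image a ∪ Y₀.image
      (fun y => (FreeGroup.of y)⁻¹ * a (b (FreeGroup.of y))) : Finset _) : Set (FreeGroup Y))
      with hN
    have e1 : ((QuotientGroup.mk' N).comp a).comp b = QuotientGroup.mk' N := by
      ext y
      simp only [MonoidHom.comp_apply, QuotientGroup.mk'_apply]
      by_cases hy : y ∈ Y₀
      · symm
        rw [QuotientGroup.eq]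
        apply subset_normalClosure
        simp only [Finset.coe_union, Finset.coe_image, Set.mem_union, Set.mem_image]
        exact Or.inr ⟨y, hy, rfl⟩
      · rw [h0 y hy]
    have e2 : normalClosure (rels : Set (FreeGroup X)) ≤ N.comap a := by
      apply normalClosure_le_normal
      intro w hw
      apply subset_normalClosure
      simp only [Finset.coe_union, Finset.coe_image, Set.mem_union, Set.mem_image]
      exact Or.inl ⟨w, hw, rfl⟩
    intro w hw
    have e3 : b w ∈ (FreeGroup.lift f).ker := by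
      rw [MonoidHom.mem_ker, hb']; exact hw
    rw [h2] at e3
    have e4 : a (b w) ∈ N := e2 e3
    have e5 := DFunLike.congr_fun e1 w
    simp only [MonoidHom.comp_apply, QuotientGroup.mk'_apply] at e5
    rwa [← QuotientGroup.eq_one_iff, ← e5, QuotientGroup.eq_one_iff]
  · apply normalClosure_le_normal
    intro w hw
    simp only [Finset.coe_union, Finset.coe_image, Set.mem_union, Set.mem_image] at hw
    rcases hw with ⟨w, hw, rfl⟩ | ⟨y, _, rfl⟩
    · have : w ∈ (FreeGroup.lift f).ker := h2 ▸ subset_normalClosure hw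
      rw [SetLike.mem_coe, MonoidHom.mem_ker, ha']
      exact this
    · rw [SetLike.mem_coe, MonoidHom.mem_ker, map_mul, ha', hb', map_inv, inv_mul_cancel]

theorem exists_word (f : X → H) {h : H} (hh : h ∈ closure (Set.range f)) :
    ∃ w, FreeGroup.lift f w = h := by
  rw [← FreeGroup.range_lift_eq_closure] at hh
  exact hh

/-- Changing the generators costs one relation for each new generator. -/
theorem HasRels.tietze [Fintype Y] {f : X → H} {g : Y → H} {r : ℕ} (h : HasRels f r)
    (hfg : closure (Set.range f) = closure (Set.range g)) : HasRels g (r + Fintype.card Y) := by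
  choose a ha using fun x => exists_word g (h := f x) (hfg ▸ subset_closure ⟨x, rfl⟩)
  choose b hb using fun y => exists_word f (h := g y) (hfg ▸ subset_closure ⟨y, rfl⟩)
  refine h.tietze_aux (FreeGroup.lift a) (FreeGroup.lift b) ?_ ?_ Finset.univ (by simp)
  · ext x; simp [ha]
  · ext y; simp [hb]

/-- Changing the generators costs one relation for each new generator, except a shared one. -/
theorem HasRels.tietze_shared [Fintype Y] {f : X → H} {g : Y → H} {r : ℕ} (h : HasRels f r)
    (hfg : closure (Set.range f) = closure (Set.range g)) (x₀ : X) (y₀ : Y) (h0 : f x₀ = g y₀) :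
    HasRels g (r + (Fintype.card Y - 1)) := by
  classical
  choose a ha using fun x => exists_word g (h := f x) (hfg ▸ subset_closure ⟨x, rfl⟩)
  choose b hb using fun y => exists_word f (h := g y) (hfg ▸ subset_closure ⟨y, rfl⟩)
  have := h.tietze_aux (g := g) (FreeGroup.lift (Function.update a x₀ (FreeGroup.of y₀)))
    (FreeGroup.lift (Function.update b y₀ (FreeGroup.of x₀))) ?_ ?_ (Finset.univ.erase y₀) ?_
  · rwa [Finset.card_erase_of_mem (Finset.mem_univ _), Finset.card_univ] at this
  · ext x
    by_cases hx : x = x₀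
    · subst hx; simp [h0]
    · simp [Function.update_of_ne hx, ha]
  · ext y
    by_cases hy : y = y₀
    · subst hy; simp [h0]
    · simp [Function.update_of_ne hy, hb]
  · intro y hy
    simp only [Finset.mem_erase, Finset.mem_univ, and_true, not_not] at hy
    subst hy
    simp

open Nat in
theorem centralBinom_le_of_no_prime (n : ℕ) (n_large : 2 < n)
    (no_prime : ∀ p : ℕ, p.Prime → n + 2 < p → 2 * n < p) :
    centralBinom n ≤ (2 * n) ^ (sqrt (2 * n) + 2) * 4 ^ (2 * n / 3) := by
  have n_pos : 0 < n := (Nat.zero_le _).trans_lt n_large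
  have n2_pos : 1 ≤ 2 * n := mul_pos (zero_lt_two' ℕ) n_pos
  let f x := x ^ n.centralBinom.factorization x
  have hf : ∀ p, f p ≤ 2 * n := fun p => pow_factorization_choose_le (mul_pos two_pos n_pos)
  have h1 : centralBinom n = ∏ p ∈ Finset.range (2 * n / 3 + 1) ∪ {n + 1, n + 2}, f p := by
    refine (Eq.trans ?_ n.prod_pow_factorization_centralBinom).symm
    apply Finset.prod_subset
    · intro x hx
      simp only [Finset.mem_union, Finset.mem_range, Finset.mem_insert, Finset.mem_singleton] at hx ⊢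
      omega
    intro x hx h2x
    simp only [Finset.mem_union, Finset.mem_range, Finset.mem_insert, Finset.mem_singleton] at hx h2x
    dsimp only [f]
    by_cases h : x.Prime
    · have := no_prime x h
      rw [factorization_centralBinom_of_two_mul_self_lt_three_mul n_large (by omega) (by omega),
        Nat.pow_zero]
    · rw [factorization_eq_zero_of_not_prime n.centralBinom h, Nat.pow_zero]
  have h2 : ∏ p ∈ Finset.range (2 * n / 3 + 1), f p ≤ (2 * n) ^ sqrt (2 * n) * 4 ^ (2 * n / 3) := by
    let S := {p ∈ Finset.range (2 * n / 3 + 1) | Nat.Prime p}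
    have : ∏ x ∈ S, f x = ∏ x ∈ Finset.range (2 * n / 3 + 1), f x := by
      refine Finset.prod_filter_of_ne fun p _ h => ?_
      contrapose h; dsimp only [f]
      rw [factorization_eq_zero_of_not_prime n.centralBinom h, _root_.pow_zero]
    rw [← this, ← Finset.prod_filter_mul_prod_filter_not S (· ≤ sqrt (2 * n))]
    apply mul_le_mul'
    · refine (Finset.prod_le_prod' fun p _ => hf p).trans ?_
      have : (Finset.Icc 1 (sqrt (2 * n))).card = sqrt (2 * n) := by
        rw [card_Icc, Nat.add_sub_cancel]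
      rw [Finset.prod_const]
      refine pow_right_mono₀ n2_pos ((Finset.card_le_card fun x hx => ?_).trans this.le)
      obtain ⟨h1, h2⟩ := Finset.mem_filter.1 hx
      exact Finset.mem_Icc.mpr ⟨(Finset.mem_filter.1 h1).2.one_lt.le, h2⟩
    · refine le_trans ?_ (primorial_le_four_pow (2 * n / 3))
      refine (Finset.prod_le_prod' fun p hp => (?_ : f p ≤ p)).trans ?_
      · obtain ⟨h1, h2⟩ := Finset.mem_filter.1 hp
        refine (pow_right_mono₀ (Finset.mem_filter.1 h1).2.one_lt.le ?_).trans (pow_one p).le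
        exact Nat.factorization_choose_le_one (sqrt_lt'.mp <| not_le.1 h2)
      refine Finset.prod_le_prod_of_subset_of_one_le' (Finset.filter_subset _ _) ?_
      exact fun p hp _ => (Finset.mem_filter.1 hp).2.one_lt.le
  rw [h1, Finset.prod_union (by
    rw [Finset.disjoint_left]
    intro x hx hx'
    simp only [Finset.mem_range, Finset.mem_insert, Finset.mem_singleton] at hx hx'
    omega), Finset.prod_pair (by omega)]
  calc _ ≤ ((2 * n) ^ sqrt (2 * n) * 4 ^ (2 * n / 3)) * ((2 * n) * (2 * n)) :=
        Nat.mul_le_mul h2 (Nat.mul_le_mul (hf _) (hf _))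
    _ = _ := by ring

theorem pow_six_le (t : ℕ) (ht : 40 ≤ t) : (t + 1) ^ 6 ≤ 2 ^ (t - 3) := by
  induction t, ht using Nat.le_induction with
  | base => norm_num
  | succ n hn ih =>
    rw [show n + 1 - 3 = (n - 3) + 1 by omega, pow_succ 2]
    have h1 : 10 * (n + 1 + 1) ≤ 11 * (n + 1) := by omega
    have h2 := Nat.pow_le_pow_left h1 6
    rw [mul_pow, mul_pow] at h2
    omega

theorem exists_prime_sharp_large (m : ℕ) (hm : 800 ≤ m) :
    ∃ p : ℕ, p.Prime ∧ m + 2 < p ∧ p ≤ 2 * m := by
  have h1 : 4 ^ m < m * m.centralBinom := Nat.four_pow_lt_mul_centralBinom m (by omega)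
  contrapose! h1
  have h2 := centralBinom_le_of_no_prime m (by omega) h1
  set t := Nat.sqrt (2 * m) with ht
  have ht1 : 40 ≤ t := by
    rw [ht, Nat.le_sqrt]; omega
  have ht2 : t * t ≤ 2 * m := Nat.sqrt_le _
  have ht3 : 2 * m < (t + 1) * (t + 1) := Nat.lt_succ_sqrt _
  have h3 : (2 * m) ^ (t + 3) ≤ 4 ^ (m - 2 * m / 3) := by
    have a1 : ((2 * m) ^ (t + 3)) ^ 3 ≤ (4 ^ (m - 2 * m / 3)) ^ 3 := by
      calc ((2 * m) ^ (t + 3)) ^ 3 ≤ (((t + 1) * (t + 1)) ^ (t + 3)) ^ 3 := by gcongr
        _ = ((t + 1) ^ 6) ^ (t + 3) := by generalize t + 1 = x; ring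
        _ ≤ (2 ^ (t - 3)) ^ (t + 3) := Nat.pow_le_pow_left (pow_six_le t ht1) _
        _ = 2 ^ ((t - 3) * (t + 3)) := by rw [← pow_mul]
        _ ≤ 2 ^ (2 * ((m - 2 * m / 3) * 3)) := by
            apply Nat.pow_le_pow_right (by norm_num)
            obtain ⟨s, hs⟩ : ∃ s, t = s + 3 := ⟨t - 3, by omega⟩
            have : (t - 3) * (t + 3) ≤ t * t := by
              rw [hs, Nat.add_sub_cancel]; nlinarith
            omega
        _ = (4 ^ (m - 2 * m / 3)) ^ 3 := by rw [pow_mul, ← pow_mul 4]; norm_num
    exact (Nat.pow_le_pow_iff_left (by norm_num)).1 a1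
  calc m * m.centralBinom ≤ (2 * m) * ((2 * m) ^ (t + 2) * 4 ^ (2 * m / 3)) :=
        Nat.mul_le_mul (by omega) h2
    _ = (2 * m) ^ (t + 3) * 4 ^ (2 * m / 3) := by ring
    _ ≤ 4 ^ (m - 2 * m / 3) * 4 ^ (2 * m / 3) := Nat.mul_le_mul_right _ h3
    _ = 4 ^ m := by rw [← pow_add]; congr 1; omega

/-- A sharper form of Bertrand's postulate. -/
theorem exists_prime_sharp (n : ℕ) (hn : 7 ≤ n) :
    ∃ p : ℕ, p.Prime ∧ 5 ≤ p ∧ p + 2 ≤ n ∧ n + 2 ≤ 2 * p := by
  by_cases h : n ≤ 8
  · exact ⟨5, by norm_num, by omega, by omega, by omega⟩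
  by_cases h : n ≤ 12
  · exact ⟨7, by norm_num, by omega, by omega, by omega⟩
  by_cases h : n ≤ 20
  · exact ⟨11, by norm_num, by omega, by omega, by omega⟩
  by_cases h : n ≤ 36
  · exact ⟨19, by norm_num, by omega, by omega, by omega⟩
  by_cases h : n ≤ 60
  · exact ⟨31, by norm_num, by omega, by omega, by omega⟩
  by_cases h : n ≤ 116
  · exact ⟨59, by norm_num, by omega, by omega, by omega⟩
  by_cases h : n ≤ 224
  · exact ⟨113, by norm_num, by omega, by omega, by omega⟩
  by_cases h : n ≤ 444
  · exact ⟨223, by norm_num, by omega, by omega, by omega⟩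
  by_cases h : n ≤ 884
  · exact ⟨443, by norm_num, by omega, by omega, by omega⟩
  by_cases h : n ≤ 1764
  · exact ⟨883, by norm_num, by omega, by omega, by omega⟩
  obtain ⟨p, hp, h1, h2⟩ := exists_prime_sharp_large (n / 2 - 1) (by omega)
  exact ⟨p, hp, by omega, by omega, by omega⟩

end Cfsg.Agent.SymAlt
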