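import Mathlib.GroupTheory.Sylow
import Mathlib.GroupTheory.SpecificGroups.Alternating
import Mathlib.GroupTheory.Perm.ViaEmbedding
import Mathlib.Data.Nat.Choose.Factorization
import Mathlib.Tactic

/-! An explicit Sylow 2-subgroup of the symmetric group on `Fin n`: the automorphisms of the
binary tree structure given by the partitions `x ↦ x / 2 ^ k`. -/

set_option autoImplicit false

namespace Cfsg.Agent.SymAlt

open Equiv Equiv.Perm Subgroup

/-- The submonoid version of `tree`. -/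
def treeMonoid (n : ℕ) : Submonoid (Perm (Fin n)) where
  carrier := {σ | ∀ k : ℕ, (∀ x y : Fin n, (x : ℕ) / 2 ^ k = (y : ℕ) / 2 ^ k →
      (σ x : ℕ) / 2 ^ k = (σ y : ℕ) / 2 ^ k) ∧
      (∀ x : Fin n, (x : ℕ) / 2 ^ k = n / 2 ^ k → (σ x : ℕ) / 2 ^ k = n / 2 ^ k)}
  one_mem' := fun _ => ⟨fun _ _ h => h, fun _ h => h⟩
  mul_mem' := fun {_ _} ha hb k =>
    ⟨fun x y h => (ha k).1 _ _ ((hb k).1 x y h), fun x h => (ha k).2 _ ((hb k).2 x h)⟩

/-- The permutations of `Fin n` preserving all the partitions `x ↦ x / 2 ^ k` and their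
incomplete blocks. -/
def tree (n : ℕ) : Subgroup (Perm (Fin n)) where
  toSubmonoid := treeMonoid n
  inv_mem' := fun {a} ha => by
    have h1 : a⁻¹ = a ^ (orderOf a - 1) := by
      rw [inv_eq_iff_mul_eq_one, ← pow_succ', Nat.sub_add_cancel (orderOf_pos a), pow_orderOf_eq_one]
    rw [h1]
    exact (treeMonoid n).pow_mem ha _

variable {n : ℕ}

theorem mem_tree {σ : Perm (Fin n)} : σ ∈ tree n ↔
    ∀ k : ℕ, (∀ x y : Fin n, (x : ℕ) / 2 ^ k = (y : ℕ) / 2 ^ k →
      (σ x : ℕ) / 2 ^ k = (σ y : ℕ) / 2 ^ k) ∧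
      (∀ x : Fin n, (x : ℕ) / 2 ^ k = n / 2 ^ k → (σ x : ℕ) / 2 ^ k = n / 2 ^ k) := Iff.rfl

theorem tree_rel {σ : Perm (Fin n)} (h : σ ∈ tree n) (k : ℕ) (x y : Fin n) :
    (σ x : ℕ) / 2 ^ k = (σ y : ℕ) / 2 ^ k ↔ (x : ℕ) / 2 ^ k = (y : ℕ) / 2 ^ k := by
  refine ⟨fun h1 => ?_, (h k).1 x y⟩
  simpa using ((tree n).inv_mem h k).1 _ _ h1

theorem tree_last {σ : Perm (Fin n)} (h : σ ∈ tree n) (k : ℕ) (x : Fin n) :
    (σ x : ℕ) / 2 ^ k = n / 2 ^ k ↔ (x : ℕ) / 2 ^ k = n / 2 ^ k := by
  refine ⟨fun h1 => ?_, (h k).2 x⟩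
  simpa using ((tree n).inv_mem h k).2 _ h1

theorem div_pow_succ (x k : ℕ) : x / 2 ^ (k + 1) = x / 2 ^ k / 2 := by
  rw [pow_succ, Nat.div_div_eq_div_mul]

theorem div_pow_mono {x y k l : ℕ} (hkl : k ≤ l) (h : x / 2 ^ k = y / 2 ^ k) :
    x / 2 ^ l = y / 2 ^ l := by
  obtain ⟨d, rfl⟩ := Nat.exists_eq_add_of_le hkl
  rw [pow_add, ← Nat.div_div_eq_div_mul, ← Nat.div_div_eq_div_mul, h]

theorem tree_sq {σ : Perm (Fin n)} (h : σ ∈ tree n) (k : ℕ)
    (hk : ∀ x : Fin n, (σ x : ℕ) / 2 ^ (k + 1) = (x : ℕ) / 2 ^ (k + 1)) (x : Fin n) :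
    ((σ ^ 2) x : ℕ) / 2 ^ k = (x : ℕ) / 2 ^ k := by
  have h1 := hk x
  have h2 := hk (σ x)
  have h3 := tree_rel h k x (σ x)
  rw [div_pow_succ, div_pow_succ] at h1 h2
  rw [pow_two, Perm.mul_apply]
  omega

theorem isPGroup_tree : IsPGroup 2 (tree n) := by
  rintro ⟨σ, hσ⟩
  have key : ∀ j : ℕ, j ≤ n → ∀ x : Fin n,
      ((σ ^ (2 ^ j)) x : ℕ) / 2 ^ (n - j) = (x : ℕ) / 2 ^ (n - j) := by
    intro j
    induction j with
    | zero =>
      intro _ x
      have h2 : n < 2 ^ n := Nat.lt_two_pow_self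
      rw [Nat.sub_zero, Nat.div_eq_of_lt (lt_trans (Fin.is_lt _) h2),
        Nat.div_eq_of_lt (lt_trans (Fin.is_lt _) h2)]
    | succ j ih =>
      intro hj x
      rw [pow_succ, pow_mul]
      apply tree_sq ((tree n).pow_mem hσ _)
      rw [show n - (j + 1) + 1 = n - j by omega]
      exact ih (by omega)
  refine ⟨n, Subtype.ext ?_⟩
  ext x
  simpa using key n le_rfl x

theorem xor_div_of_lt {z c k : ℕ} (hc : c < 2 ^ k) : (z ^^^ c) / 2 ^ k = z / 2 ^ k := by
  rw [Nat.xor_div_two_pow, Nat.div_eq_of_lt hc, Nat.xor_zero]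

theorem lt_of_div_lt_div {z k : ℕ} (h : z / 2 ^ k < n / 2 ^ k) : z < n :=
  Nat.lt_of_div_lt_div h

/-- Translation by `c` (bitwise) inside the complete block number `j` at level `k`. -/
def xorFun (k j c : ℕ) (hj : j < n / 2 ^ k) (hc : c < 2 ^ k) (z : Fin n) : Fin n :=
  if h : (z : ℕ) / 2 ^ k = j then
    ⟨z ^^^ c, lt_of_div_lt_div (k := k) (by rw [xor_div_of_lt hc, h]; exact hj)⟩ else z

theorem xorFun_val (k j c : ℕ) (hj : j < n / 2 ^ k) (hc : c < 2 ^ k) (z : Fin n) :
    (xorFun k j c hj hc z : ℕ) = if (z : ℕ) / 2 ^ k = j then (z : ℕ) ^^^ c else z := by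
  unfold xorFun
  split_ifs <;> rfl

theorem xorFun_involutive (k j c : ℕ) (hj : j < n / 2 ^ k) (hc : c < 2 ^ k) :
    Function.Involutive (xorFun k j c hj hc) := by
  intro z
  apply Fin.ext
  rw [xorFun_val, xorFun_val]
  by_cases h : (z : ℕ) / 2 ^ k = j
  · rw [if_pos h, if_pos (by rw [xor_div_of_lt hc, h]), Nat.xor_assoc, Nat.xor_self, Nat.xor_zero]
  · rw [if_neg h, if_neg h]

/-- Translation by `c` (bitwise) inside the complete block number `j` at level `k`. -/
def xorPerm (k j c : ℕ) (hj : j < n / 2 ^ k) (hc : c < 2 ^ k) : Perm (Fin n) :=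
  (xorFun_involutive k j c hj hc).toPerm

theorem xorPerm_val (k j c : ℕ) (hj : j < n / 2 ^ k) (hc : c < 2 ^ k) (z : Fin n) :
    (xorPerm k j c hj hc z : ℕ) = if (z : ℕ) / 2 ^ k = j then (z : ℕ) ^^^ c else z :=
  xorFun_val k j c hj hc z

theorem xorPerm_val_of_eq {k j c : ℕ} (hj : j < n / 2 ^ k) (hc : c < 2 ^ k) {z : Fin n}
    (h : (z : ℕ) / 2 ^ k = j) : (xorPerm k j c hj hc z : ℕ) = (z : ℕ) ^^^ c := by
  rw [xorPerm_val, if_pos h]

theorem xorPerm_apply_of_ne {k j c : ℕ} (hj : j < n / 2 ^ k) (hc : c < 2 ^ k) {z : Fin n}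
    (h : (z : ℕ) / 2 ^ k ≠ j) : xorPerm k j c hj hc z = z := by
  apply Fin.ext
  rw [xorPerm_val, if_neg h]

theorem xorPerm_mul_self {k j c : ℕ} (hj : j < n / 2 ^ k) (hc : c < 2 ^ k) :
    xorPerm k j c hj hc * xorPerm k j c hj hc = 1 := by
  ext z
  exact congrArg _ (xorFun_involutive k j c hj hc z)

theorem xorPerm_div_of_le {k j c l : ℕ} (hj : j < n / 2 ^ k) (hc : c < 2 ^ k) (hl : k ≤ l)
    (z : Fin n) : (xorPerm k j c hj hc z : ℕ) / 2 ^ l = (z : ℕ) / 2 ^ l := by
  rw [xorPerm_val]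
  split_ifs
  · exact xor_div_of_lt (lt_of_lt_of_le hc (Nat.pow_le_pow_right (by norm_num) hl))
  · rfl

theorem xorPerm_mem_tree {k j c : ℕ} (hj : j < n / 2 ^ k) (hc : c < 2 ^ k) :
    xorPerm k j c hj hc ∈ tree n := by
  intro l
  rcases le_total k l with hl | hl
  · simp only [xorPerm_div_of_le hj hc hl]
    exact ⟨fun _ _ h => h, fun _ h => h⟩
  · constructor
    · intro x y h
      have h' := div_pow_mono hl h
      rw [xorPerm_val, xorPerm_val, ← h']
      split_ifs
      · rw [Nat.xor_div_two_pow, Nat.xor_div_two_pow, h]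
      · exact h
    · intro x h
      have h' := div_pow_mono hl h
      rw [xorPerm_apply_of_ne hj hc (by omega), h]

theorem xor_lt_of_div_eq {x y k : ℕ} (h : x / 2 ^ k = y / 2 ^ k) : x ^^^ y < 2 ^ k := by
  have : (x ^^^ y) / 2 ^ k = 0 := by rw [Nat.xor_div_two_pow, h, Nat.xor_self]
  rwa [Nat.div_eq_zero_iff_lt (by positivity)] at this

/-- Transitivity on complete blocks. -/
theorem exists_tree_apply_eq {k : ℕ} {x y : Fin n} (h : (x : ℕ) / 2 ^ k = (y : ℕ) / 2 ^ k)
    (hx : (x : ℕ) / 2 ^ k < n / 2 ^ k) :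
    ∃ σ ∈ tree n, σ x = y ∧ ∀ z : Fin n, (z : ℕ) / 2 ^ k ≠ (x : ℕ) / 2 ^ k → σ z = z := by
  refine ⟨xorPerm k _ _ hx (xor_lt_of_div_eq h), xorPerm_mem_tree _ _, ?_,
    fun z hz => xorPerm_apply_of_ne _ _ hz⟩
  apply Fin.ext
  rw [xorPerm_val_of_eq _ _ rfl, ← Nat.xor_assoc, Nat.xor_self, Nat.zero_xor]

theorem viaEmbedding_castSucc_mem_tree {σ : Perm (Fin n)} (h : σ ∈ tree n) :
    σ.viaEmbedding Fin.castSuccEmb ∈ tree (n + 1) := by
  have h1 : ∀ x : Fin n, σ.viaEmbedding Fin.castSuccEmb x.castSucc = (σ x).castSucc :=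
    fun x => viaEmbedding_apply σ Fin.castSuccEmb x
  have h2 : σ.viaEmbedding Fin.castSuccEmb (Fin.last n) = Fin.last n := by
    apply viaEmbedding_apply_of_notMem
    rintro ⟨x, hx⟩
    exact (Fin.castSucc_lt_last x).ne hx
  intro k
  constructor
  · intro x y
    induction x using Fin.lastCases with
    | last =>
      induction y using Fin.lastCases with
      | last => exact fun _ => rfl
      | cast y =>
        rw [h1, h2]
        simp only [Fin.val_last, Fin.val_castSucc]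
        exact fun hh => ((h k).2 y hh.symm).symm
    | cast x =>
      induction y using Fin.lastCases with
      | last =>
        rw [h1, h2]
        simp only [Fin.val_last, Fin.val_castSucc]
        exact (h k).2 x
      | cast y =>
        rw [h1, h1]
        simp only [Fin.val_castSucc]
        exact (h k).1 x y
  · intro x
    induction x using Fin.lastCases with
    | last => rw [h2]; exact fun hh => hh
    | cast x =>
      rw [h1]
      simp only [Fin.val_castSucc]
      intro hh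
      have a1 : (x : ℕ) / 2 ^ k ≤ n / 2 ^ k := Nat.div_le_div_right x.is_lt.le
      have a2 : n / 2 ^ k ≤ (n + 1) / 2 ^ k := Nat.div_le_div_right (Nat.le_succ n)
      have a3 := (h k).2 x (by omega)
      omega

theorem two_pow_factorization_le_card_tree (n : ℕ) :
    2 ^ (n.factorial.factorization 2) ≤ Nat.card (tree n) := by
  induction n with
  | zero => simp
  | succ n ih =>
    set a := (n + 1).factorization 2 with ha
    have hfac : (n + 1).factorial.factorization 2 = a + n.factorial.factorization 2 := by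
      rw [Nat.factorial_succ, Nat.factorization_mul (by omega) (Nat.factorial_ne_zero n)]
      rfl
    have hdvd : 2 ^ a ∣ n + 1 := Nat.ordProj_dvd (n + 1) 2
    obtain ⟨m, hm⟩ := hdvd
    have hm0 : 0 < m := by
      rcases Nat.eq_zero_or_pos m with h | h
      · rw [h] at hm; omega
      · exact h
    have hpos : 0 < 2 ^ a := by positivity
    have hnd : n / 2 ^ a = m - 1 := by
      obtain ⟨m', rfl⟩ : ∃ m', m = m' + 1 := ⟨m - 1, by omega⟩
      rw [Nat.div_eq_iff hpos]
      constructor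
      · simp only [Nat.add_sub_cancel]; nlinarith
      · simp only [Nat.add_sub_cancel]
        have : n + 1 = m' * 2 ^ a + 2 ^ a := by rw [hm]; ring
        omega
    have hn1 : (n + 1) / 2 ^ a = m := by rw [hm, Nat.mul_div_cancel_left _ hpos]
    have horb : 2 ^ a ≤ Nat.card (MulAction.orbit (tree (n + 1)) (Fin.last n)) := by
      have hlt : ∀ i : Fin (2 ^ a), (m - 1) * 2 ^ a + i < n + 1 := by
        intro i
        obtain ⟨m', rfl⟩ : ∃ m', m = m' + 1 := ⟨m - 1, by omega⟩
        have : n + 1 = m' * 2 ^ a + 2 ^ a := by rw [hm]; ring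
        have := i.is_lt
        simp only [Nat.add_sub_cancel]
        omega
      let f : Fin (2 ^ a) → MulAction.orbit (tree (n + 1)) (Fin.last n) := fun i =>
        ⟨⟨(m - 1) * 2 ^ a + i, hlt i⟩, by
          obtain ⟨σ, hσ, hσ', -⟩ := exists_tree_apply_eq (k := a) (x := Fin.last n)
            (y := ⟨(m - 1) * 2 ^ a + i, hlt i⟩) (by
              simp only [Fin.val_last]
              rw [hnd, add_comm, Nat.add_mul_div_right _ _ hpos, Nat.div_eq_of_lt i.is_lt, zero_add])
            (by simp only [Fin.val_last]; omega)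
          exact ⟨⟨σ, hσ⟩, hσ'⟩⟩
      have hf : Function.Injective f := by
        intro i j hij
        have := congrArg (fun z => (z.1 : ℕ)) hij
        simp only [f] at this
        exact Fin.ext (by omega)
      simpa using Nat.card_le_card_of_injective f hf
    have hstab : Nat.card (tree n) ≤
        Nat.card (MulAction.stabilizer (tree (n + 1)) (Fin.last n)) := by
      let f : tree n → MulAction.stabilizer (tree (n + 1)) (Fin.last n) := fun σ =>
        ⟨⟨σ.1.viaEmbedding Fin.castSuccEmb, viaEmbedding_castSucc_mem_tree σ.2⟩, by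
          rw [MulAction.mem_stabilizer_iff]
          apply viaEmbedding_apply_of_notMem
          rintro ⟨x, hx⟩
          exact (Fin.castSucc_lt_last x).ne hx⟩
      have hf : Function.Injective f := by
        intro σ τ h
        have := congrArg (fun z => (z.1.1 : Perm (Fin (n + 1)))) h
        exact Subtype.ext (viaEmbeddingHom_injective Fin.castSuccEmb this)
      exact Nat.card_le_card_of_injective f hf
    have hos := MulAction.index_stabilizer (tree (n + 1)) (Fin.last n)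
    rw [← (MulAction.stabilizer (tree (n + 1)) (Fin.last n)).index_mul_card, hos, hfac, pow_add]
    exact Nat.mul_le_mul horb (ih.trans hstab)

theorem card_tree (n : ℕ) : Nat.card (tree n) = 2 ^ (n.factorial.factorization 2) := by
  apply le_antisymm _ (two_pow_factorization_le_card_tree n)
  obtain ⟨Q, hQ⟩ := (isPGroup_tree (n := n)).exists_le_sylow
  have := Q.card_eq_multiplicity
  rw [Nat.card_perm, Nat.card_fin] at this
  rw [← this]
  exact Subgroup.card_le_of_le hQ

/-- The tree group as a Sylow 2-subgroup of the symmetric group. -/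
def treeSylow (n : ℕ) : Sylow 2 (Perm (Fin n)) :=
  Sylow.ofCard (tree n) (by rw [card_tree, Nat.card_perm, Nat.card_fin])

theorem coe_treeSylow (n : ℕ) : (treeSylow n : Subgroup (Perm (Fin n))) = tree n := rfl

end Cfsg.Agent.SymAlt
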