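import Cfsg.Agent.SymAlt.Tree

/-! The explicit Sylow 2-subgroup of the alternating group, and its normalizer. -/

set_option autoImplicit false

namespace Cfsg.Agent.SymAlt

open Equiv Equiv.Perm Subgroup
open scoped Pointwise

theorem exists_sylow_eq_subgroupOf {G : Type*} [Group G] [Finite G] {p : ℕ} [Fact p.Prime]
    (P : Sylow p G) (N : Subgroup G) [hN : N.Normal] :
    ∃ R : Sylow p N, (R : Subgroup N) = (P : Subgroup G).subgroupOf N := by
  obtain ⟨R, hR⟩ := (P.isPGroup'.comap_subtype (K := N)).exists_le_sylow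
  obtain ⟨Q, hQ⟩ := R.exists_comap_subtype_eq
  obtain ⟨g, rfl⟩ := MulAction.exists_smul_eq G P Q
  refine ⟨R, (Subgroup.eq_of_le_of_card_ge hR ?_).symm⟩
  let f : ↥(R : Subgroup N) → ↥((P : Subgroup G).comap N.subtype) := fun x : ↥(R : Subgroup N) =>
    ⟨⟨g⁻¹ * x.1.1 * g⁻¹⁻¹, hN.conj_mem _ x.1.2 _⟩, by
      have hx : x.1 ∈ ((g • P : Sylow p G) : Subgroup G).comap N.subtype := by
        rw [hQ]; exact x.2
      rw [mem_comap, Sylow.coe_subgroup_smul, mem_pointwise_smul_iff_inv_smul_mem] at hx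
      rw [mem_comap]
      simpa using hx⟩
  have hf : Function.Injective f := by
    intro x y h
    have := congrArg (fun z => (z.1.1 : G)) h
    simp only [f, mul_left_inj, mul_right_inj] at this
    exact Subtype.ext (Subtype.ext this)
  exact Nat.card_le_card_of_injective f hf

/-- The even part of the tree group, inside the alternating group. -/
def altTree (n : ℕ) : Subgroup (alternatingGroup (Fin n)) :=
  (tree n).subgroupOf (alternatingGroup (Fin n))

theorem mem_altTree {n : ℕ} {σ : alternatingGroup (Fin n)} :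
    σ ∈ altTree n ↔ (σ : Perm (Fin n)) ∈ tree n := Iff.rfl

theorem exists_sylow_altTree (n : ℕ) :
    ∃ R : Sylow 2 (alternatingGroup (Fin n)), (R : Subgroup _) = altTree n :=
  exists_sylow_eq_subgroupOf (treeSylow n) _

variable {n : ℕ}

theorem xor_one_eq (z : ℕ) : z ^^^ 1 = if z % 2 = 0 then z + 1 else z - 1 := by
  have h1 : (z ^^^ 1) / 2 = z / 2 := xor_div_of_lt (k := 1) (by norm_num)
  have h2 : (z ^^^ 1) % 2 = (z % 2) ^^^ 1 := Nat.xor_mod_two_pow (n := 1)
  rcases Nat.mod_two_eq_zero_or_one z with h | h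
  · rw [h] at h2
    rw [if_pos h]
    simp only [Nat.zero_xor] at h2
    omega
  · rw [h] at h2
    rw [if_neg (by omega)]
    simp only [Nat.xor_self] at h2
    omega

theorem xorPerm_one_eq_swap {i : ℕ} (hi : 2 * i + 1 < n) (h1 : i < n / 2 ^ 1) (h2 : 1 < 2 ^ 1) :
    xorPerm 1 i 1 h1 h2 = swap ⟨2 * i, by omega⟩ ⟨2 * i + 1, hi⟩ := by
  ext z
  rw [xorPerm_val, xor_one_eq, swap_apply_def]
  simp only [Fin.ext_iff]
  split_ifs <;> (try simp only) <;> omega

theorem pairSwap_mem_tree {i : ℕ} (hi : 2 * i + 1 < n) :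
    swap ⟨2 * i, by omega⟩ ⟨2 * i + 1, hi⟩ ∈ tree n := by
  rw [← xorPerm_one_eq_swap hi (by omega) (by norm_num)]
  exact xorPerm_mem_tree _ _

theorem sign_pairSwap {i : ℕ} (hi : 2 * i + 1 < n) :
    sign (swap (⟨2 * i, by omega⟩ : Fin n) ⟨2 * i + 1, hi⟩) = -1 :=
  sign_swap (by simp [Fin.ext_iff])

/-- For `n ≥ 6`, an element of the tree group can be corrected to an even one without changing
its values at two given points. -/
theorem exists_even_tree_agree (hn : 6 ≤ n) {σ : Perm (Fin n)} (hσ : σ ∈ tree n) (x y : Fin n) :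
    ∃ τ ∈ tree n, sign τ = 1 ∧ τ x = σ x ∧ τ y = σ y := by
  rcases Int.units_eq_one_or (sign σ) with h | h
  · exact ⟨σ, hσ, h, rfl, rfl⟩
  · obtain ⟨i, hi, hx, hy⟩ : ∃ i : ℕ, i < 3 ∧ (x : ℕ) / 2 ≠ i ∧ (y : ℕ) / 2 ≠ i := by
      by_cases h0 : (x : ℕ) / 2 ≠ 0 ∧ (y : ℕ) / 2 ≠ 0
      · exact ⟨0, by omega, h0.1, h0.2⟩
      by_cases h1 : (x : ℕ) / 2 ≠ 1 ∧ (y : ℕ) / 2 ≠ 1
      · exact ⟨1, by omega, h1.1, h1.2⟩
      exact ⟨2, by omega, by omega, by omega⟩
    have hi' : 2 * i + 1 < n := by omega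
    refine ⟨σ * swap ⟨2 * i, by omega⟩ ⟨2 * i + 1, hi'⟩,
      (tree n).mul_mem hσ (pairSwap_mem_tree hi'), ?_, ?_, ?_⟩
    · rw [Perm.sign_mul, h, sign_pairSwap hi']; rfl
    · rw [Perm.mul_apply, swap_apply_of_ne_of_ne] <;> simp only [ne_eq, Fin.ext_iff] <;> omega
    · rw [Perm.mul_apply, swap_apply_of_ne_of_ne] <;> simp only [ne_eq, Fin.ext_iff] <;> omega

/-- For `n ≥ 4`, an element of the tree group can be corrected to an even one without changing
its value at a given point. -/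
theorem exists_even_tree_agree_one (hn : 4 ≤ n) {σ : Perm (Fin n)} (hσ : σ ∈ tree n) (x : Fin n) :
    ∃ τ ∈ tree n, sign τ = 1 ∧ τ x = σ x := by
  rcases Int.units_eq_one_or (sign σ) with h | h
  · exact ⟨σ, hσ, h, rfl⟩
  · obtain ⟨i, hi, hx⟩ : ∃ i : ℕ, i < 2 ∧ (x : ℕ) / 2 ≠ i := by
      by_cases h0 : (x : ℕ) / 2 ≠ 0
      · exact ⟨0, by omega, h0⟩
      exact ⟨1, by omega, by omega⟩
    have hi' : 2 * i + 1 < n := by omega
    refine ⟨σ * swap ⟨2 * i, by omega⟩ ⟨2 * i + 1, hi'⟩,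
      (tree n).mul_mem hσ (pairSwap_mem_tree hi'), ?_, ?_⟩
    · rw [Perm.sign_mul, h, sign_pairSwap hi']; rfl
    · rw [Perm.mul_apply, swap_apply_of_ne_of_ne] <;> simp only [ne_eq, Fin.ext_iff] <;> omega

theorem xor_two_pow_div_ne (z k : ℕ) : (z ^^^ 2 ^ k) / 2 ^ k ≠ z / 2 ^ k := by
  rw [Nat.xor_div_two_pow, Nat.div_self (by positivity), xor_one_eq]
  split_ifs <;> omega

/-- An even element of the tree group moving the level-`k` block of `y` and fixing `x`. -/
theorem exists_even_tree_move (hn : 6 ≤ n) (k : ℕ) (x y : Fin n)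
    (hy : (y : ℕ) / 2 ^ (k + 1) ≠ n / 2 ^ (k + 1)) :
    ∃ τ ∈ tree n, sign τ = 1 ∧ (τ y : ℕ) / 2 ^ k ≠ (y : ℕ) / 2 ^ k ∧
      ((x : ℕ) / 2 ^ (k + 1) ≠ (y : ℕ) / 2 ^ (k + 1) → τ x = x) := by
  have h1 : (y : ℕ) / 2 ^ (k + 1) < n / 2 ^ (k + 1) :=
    lt_of_le_of_ne (Nat.div_le_div_right y.is_lt.le) hy
  have h2 : 2 ^ k < 2 ^ (k + 1) := Nat.pow_lt_pow_right (by norm_num) (by omega)
  obtain ⟨τ, hτ, hs, hx', hy'⟩ := exists_even_tree_agree hn (xorPerm_mem_tree h1 h2) x y
  refine ⟨τ, hτ, hs, ?_, fun h => ?_⟩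
  · rw [hy', xorPerm_val_of_eq _ _ rfl]
    exact xor_two_pow_div_ne _ _
  · rw [hx', xorPerm_apply_of_ne _ _ h]

theorem last_succ_iff (hn : 6 ≤ n) (k : ℕ) (x : Fin n) :
    (x : ℕ) / 2 ^ (k + 1) = n / 2 ^ (k + 1) ↔
      ∀ r ∈ tree n, sign r = 1 → (r x : ℕ) / 2 ^ k = (x : ℕ) / 2 ^ k := by
  constructor
  · intro h r hr _
    have h1 := (hr (k + 1)).2 x h
    have h2 := tree_last hr k x
    have h3 : (x : ℕ) / 2 ^ k ≤ n / 2 ^ k := Nat.div_le_div_right x.is_lt.le
    have h4 : (r x : ℕ) / 2 ^ k ≤ n / 2 ^ k := Nat.div_le_div_right (r x).is_lt.le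
    rw [div_pow_succ, div_pow_succ] at h h1
    omega
  · intro h
    by_contra hx
    obtain ⟨τ, hτ, hs, h1, -⟩ := exists_even_tree_move hn k x x hx
    exact h1 (h τ hτ hs)

theorem rel_succ_iff (hn : 6 ≤ n) (k : ℕ) (x y : Fin n)
    (hy : (y : ℕ) / 2 ^ (k + 1) ≠ n / 2 ^ (k + 1)) :
    (x : ℕ) / 2 ^ (k + 1) = (y : ℕ) / 2 ^ (k + 1) ↔
      ∀ r ∈ tree n, sign r = 1 → (r x : ℕ) / 2 ^ k = (x : ℕ) / 2 ^ k →
        (r y : ℕ) / 2 ^ k = (y : ℕ) / 2 ^ k := by
  constructor
  · intro h r hr _ h1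
    have h2 := (hr (k + 1)).1 x y h
    have h3 := tree_rel hr k x y
    rw [div_pow_succ, div_pow_succ] at h h2
    omega
  · intro h
    by_contra hx
    obtain ⟨τ, hτ, hs, h1, h2⟩ := exists_even_tree_move hn k x y hy
    exact h1 (h τ hτ hs (by rw [h2 hx]))

/-- For `n ≥ 6`, a permutation normalizing the even part of the tree group lies in the tree
group. -/
theorem mem_tree_of_normalizes (hn : 6 ≤ n) {g : Perm (Fin n)}
    (hg : ∀ r : Perm (Fin n), sign r = 1 → (r ∈ tree n ↔ g * r * g⁻¹ ∈ tree n)) :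
    g ∈ tree n := by
  have key : ∀ k : ℕ, (∀ x y : Fin n, (x : ℕ) / 2 ^ k = (y : ℕ) / 2 ^ k ↔
      (g x : ℕ) / 2 ^ k = (g y : ℕ) / 2 ^ k) ∧
      (∀ x : Fin n, (x : ℕ) / 2 ^ k = n / 2 ^ k ↔ (g x : ℕ) / 2 ^ k = n / 2 ^ k) := by
    intro k
    induction k with
    | zero =>
      simp only [pow_zero, Nat.div_one, ← Fin.ext_iff, g.apply_eq_iff_eq, implies_true, true_and]
      intro x
      have := x.is_lt
      have := (g x).is_lt
      omega
    | succ k ih =>
      have hconj : ∀ r ∈ tree n, sign r = 1 → g⁻¹ * r * g ∈ tree n := by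
        intro r hr hs
        rw [hg _ (by simp [hs])]
        simpa [mul_assoc] using hr
      have hlast : ∀ x : Fin n, (x : ℕ) / 2 ^ (k + 1) = n / 2 ^ (k + 1) ↔
          (g x : ℕ) / 2 ^ (k + 1) = n / 2 ^ (k + 1) := by
        intro x
        rw [last_succ_iff hn, last_succ_iff hn]
        constructor
        · intro h r hr hs
          have := h _ (hconj r hr hs) (by simp [hs])
          rw [ih.1] at this
          simpa using this
        · intro h r hr hs
          have := h _ ((hg r hs).1 hr) (by simp [hs])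
          rw [ih.1]
          simpa using this
      refine ⟨fun x y => ?_, hlast⟩
      by_cases hy : (y : ℕ) / 2 ^ (k + 1) = n / 2 ^ (k + 1)
      · rw [hy, (hlast y).1 hy]
        exact hlast x
      · rw [rel_succ_iff hn k x y hy, rel_succ_iff hn k _ _ (fun h => hy ((hlast y).2 h))]
        constructor
        · intro h r hr hs h1
          have := h _ (hconj r hr hs) (by simp [hs]) (by rw [ih.1]; simpa using h1)
          rw [ih.1] at this
          simpa using this
        · intro h r hr hs h1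
          have := h _ ((hg r hs).1 hr) (by simp [hs]) (by rw [ih.1] at h1; simpa using h1)
          rw [ih.1]
          simpa using this
  exact fun k => ⟨fun x y => ((key k).1 x y).1, fun x => ((key k).2 x).1⟩

theorem normalizer_altTree (hn : 6 ≤ n) :
    normalizer (altTree n : Set (alternatingGroup (Fin n))) = altTree n := by
  refine le_antisymm (fun g hg => ?_) le_normalizer
  apply mem_tree_of_normalizes hn
  intro r hr
  exact (mem_normalizer_iff.1 hg) ⟨r, hr⟩

/-- For `n ≥ 6` the Sylow 2-subgroups of the alternating group are self-normalizing. -/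
theorem normalizer_sylow_two_alt (hn : 6 ≤ n) (R : Sylow 2 (alternatingGroup (Fin n))) :
    normalizer (R : Set (alternatingGroup (Fin n))) = R := by
  obtain ⟨T, hT⟩ := exists_sylow_altTree n
  have h1 : normalizer (T : Set (alternatingGroup (Fin n))) = T := by
    rw [← Sylow.coe_coe, hT]
    exact normalizer_altTree hn
  refine (Subgroup.eq_of_le_of_card_ge le_normalizer ?_).symm
  have h2 := R.card_eq_index_normalizer
  have h3 := T.card_eq_index_normalizer
  have h4 := (normalizer (R : Set (alternatingGroup (Fin n)))).index_mul_card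
  have h5 := (normalizer (T : Set (alternatingGroup (Fin n)))).index_mul_card
  have h6 : Nat.card R = Nat.card T := by
    rw [R.card_eq_multiplicity, T.card_eq_multiplicity]
  rw [← h2] at h4
  rw [← h3, h1, ← h4] at h5
  have h7 : 0 < Nat.card (Sylow 2 (alternatingGroup (Fin n))) := Nat.card_pos
  have h8 := Nat.eq_of_mul_eq_mul_left h7 h5
  change Nat.card (normalizer (R : Set (alternatingGroup (Fin n)))) ≤ Nat.card R
  rw [← h8, h6]

end Cfsg.Agent.SymAlt
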