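import Cfsg.Agent.SymAlt.TreeAlt
import Mathlib.GroupTheory.GroupAction.Jordan

/-! Overgroups of the even part of the tree group. -/

set_option autoImplicit false

namespace Cfsg.Agent.SymAlt

open Equiv Equiv.Perm Subgroup
open scoped Pointwise

variable {n : ℕ}

theorem mem_tree_of_bounded (K : ℕ) (hK : n < 2 ^ K) {σ : Perm (Fin n)}
    (h : ∀ k < K, (∀ x y : Fin n, (x : ℕ) / 2 ^ k = (y : ℕ) / 2 ^ k →
      (σ x : ℕ) / 2 ^ k = (σ y : ℕ) / 2 ^ k) ∧
      (∀ x : Fin n, (x : ℕ) / 2 ^ k = n / 2 ^ k → (σ x : ℕ) / 2 ^ k = n / 2 ^ k)) :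
    σ ∈ tree n := by
  intro k
  rcases lt_or_ge k K with hk | hk
  · exact h k hk
  · have h1 : n < 2 ^ k := lt_of_lt_of_le hK (Nat.pow_le_pow_right (by norm_num) hk)
    have h2 : ∀ x : Fin n, (x : ℕ) / 2 ^ k = 0 := fun x => Nat.div_eq_of_lt (x.is_lt.trans h1)
    simp [h2, Nat.div_eq_of_lt h1]

theorem tree_fix_last (hn : n % 2 = 1) {σ : Perm (Fin n)} (h : σ ∈ tree n) (x : Fin n)
    (hx : (x : ℕ) + 1 = n) : σ x = x := by
  have h1 := (h 1).2 x (by omega)
  have h2 := (σ x).is_lt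
  apply Fin.ext
  omega

theorem conj_swap_mul_swap {α : Type*} [DecidableEq α] (g : Perm α) (a b c d : α) :
    g * (swap a b * swap c d) * g⁻¹ = swap (g a) (g b) * swap (g c) (g d) := by
  rw [swap_apply_apply, swap_apply_apply]
  group

theorem threeCycle_five (H : Subgroup (Perm (Fin 5)))
    (hH : ∀ r ∈ tree 5, sign r = 1 → r ∈ H) (a b : Fin 5) (hab : a ≠ b) (ha0 : a ≠ 0) (ha4 : a ≠ 4)
    (hb0 : b ≠ 0) (hb4 : b ≠ 4) (ht : swap 4 0 * swap a b ∈ H) :
    ∃ c ∈ H, IsThreeCycle c := by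
  obtain ⟨e, he0, he4, he, hs⟩ : ∃ e : Fin 5, e ≠ 0 ∧ e ≠ 4 ∧ swap a b * swap 0 e ∈ tree 5 ∧
      sign (swap a b * swap 0 e) = 1 := by
    have : ∀ a b : Fin 5, a ≠ b → a ≠ 0 → a ≠ 4 → b ≠ 0 → b ≠ 4 → ∃ e : Fin 5, e ≠ 0 ∧ e ≠ 4 ∧
        ∀ k < 3, (∀ x y : Fin 5, (x : ℕ) / 2 ^ k = (y : ℕ) / 2 ^ k →
          ((swap a b * swap 0 e) x : ℕ) / 2 ^ k = ((swap a b * swap 0 e) y : ℕ) / 2 ^ k) ∧
          (∀ x : Fin 5, (x : ℕ) / 2 ^ k = 5 / 2 ^ k →
            ((swap a b * swap 0 e) x : ℕ) / 2 ^ k = 5 / 2 ^ k) := by decide +kernel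
    obtain ⟨e, he0, he4, he⟩ := this a b hab ha0 ha4 hb0 hb4
    refine ⟨e, he0, he4, mem_tree_of_bounded 3 (by norm_num) he, ?_⟩
    rw [Perm.sign_mul, sign_swap hab, sign_swap he0.symm]
    rfl
  refine ⟨_, H.mul_mem ht (hH _ he hs), ?_⟩
  rw [mul_assoc, ← mul_assoc (swap a b), swap_mul_self, one_mul, swap_comm 4 0]
  exact isThreeCycle_swap_mul_swap_same (by decide) he0.symm he4.symm

theorem threeCycle_big_aux (hn : 8 ≤ n) (H : Subgroup (Perm (Fin n)))
    (hH : ∀ r ∈ tree n, sign r = 1 → r ∈ H) (u z a b : Fin n) (hz : (z : ℕ) = 0)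
    (hu : (u : ℕ) + 1 = n) (hn2 : n % 2 = 1) (hab : (a : ℕ) / 2 ≠ (b : ℕ) / 2)
    (ha0 : a ≠ z) (hau : a ≠ u) (hb0 : b ≠ z) (hbu : b ≠ u) (hb1 : (b : ℕ) ≠ 1)
    (ht : swap u z * swap a b ∈ H) :
    ∃ c ∈ H, IsThreeCycle c := by
  obtain ⟨i, hi, hi0, hia, hib⟩ : ∃ i : ℕ, i < 4 ∧ i ≠ 0 ∧ i ≠ (a : ℕ) / 2 ∧ i ≠ (b : ℕ) / 2 := by
    by_cases h1 : 1 ≠ (a : ℕ) / 2 ∧ 1 ≠ (b : ℕ) / 2
    · exact ⟨1, by omega, by omega, h1.1, h1.2⟩
    by_cases h2 : 2 ≠ (a : ℕ) / 2 ∧ 2 ≠ (b : ℕ) / 2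
    · exact ⟨2, by omega, by omega, h2.1, h2.2⟩
    exact ⟨3, by omega, by omega, by omega, by omega⟩
  have hi' : 2 * i + 1 < n := by omega
  have hbu' : (b : ℕ) ≠ u := fun h => hbu (Fin.ext h)
  have hbz' : (b : ℕ) ≠ z := fun h => hb0 (Fin.ext h)
  have hbn := b.is_lt
  have hj' : 2 * ((b : ℕ) / 2) + 1 < n := by omega
  obtain ⟨b', hb', hbb'⟩ : ∃ b' : Fin n, ((b' : ℕ) / 2 = (b : ℕ) / 2 ∧ b' ≠ b) ∧
      swap b b' ∈ tree n := by
    rcases Nat.mod_two_eq_zero_or_one b with h | h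
    · refine ⟨⟨2 * ((b : ℕ) / 2) + 1, hj'⟩, ⟨by simp only; omega,
        by simp only [ne_eq, Fin.ext_iff]; omega⟩, ?_⟩
      convert pairSwap_mem_tree hj' using 2
      apply Fin.ext
      simp only
      omega
    · refine ⟨⟨2 * ((b : ℕ) / 2), by omega⟩, ⟨by simp only; omega,
        by simp only [ne_eq, Fin.ext_iff]; omega⟩, ?_⟩
      rw [swap_comm]
      convert pairSwap_mem_tree hj' using 2
      apply Fin.ext
      simp only
      omega
  set c : Fin n := ⟨2 * i, by omega⟩ with hc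
  set d : Fin n := ⟨2 * i + 1, hi'⟩ with hd
  have hcv : (c : ℕ) = 2 * i := rfl
  have hdv : (d : ℕ) = 2 * i + 1 := rfl
  have hs : swap b b' * swap c d ∈ H := by
    apply hH _ ((tree n).mul_mem hbb' (pairSwap_mem_tree hi'))
    rw [Perm.sign_mul, sign_swap hb'.2.symm, sign_pairSwap hi']
    rfl
  have hb'2 : (b' : ℕ) ≠ b := fun h => hb'.2 (Fin.ext h)
  have hb'1 := hb'.1
  have hb'n := b'.is_lt
  have hau' : (a : ℕ) ≠ u := fun h => hau (Fin.ext h)
  have haz' : (a : ℕ) ≠ z := fun h => ha0 (Fin.ext h)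
  have e1 : (swap u z * swap a b) b = a := by
    rw [Perm.mul_apply, swap_apply_right, swap_apply_of_ne_of_ne hau ha0]
  have e2 : ∀ x : Fin n, (x : ℕ) ≠ a → (x : ℕ) ≠ b → (x : ℕ) ≠ u → (x : ℕ) ≠ z →
      (swap u z * swap a b) x = x := by
    intro x h1 h2 h3 h4
    rw [Perm.mul_apply, swap_apply_of_ne_of_ne (x := x) (a := a) (b := b)
      (fun h => h1 (by rw [h])) (fun h => h2 (by rw [h])),
      swap_apply_of_ne_of_ne (fun h => h3 (by rw [h])) (fun h => h4 (by rw [h]))]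
  have hconj := conj_swap_mul_swap (swap u z * swap a b) b b' c d
  rw [e1, e2 b' (by omega) (by omega) (by omega) (by omega),
    e2 c (by omega) (by omega) (by omega) (by omega),
    e2 d (by omega) (by omega) (by omega) (by omega)] at hconj
  refine ⟨_, H.mul_mem (H.mul_mem (H.mul_mem ht hs) (H.inv_mem ht)) (H.inv_mem hs), ?_⟩
  rw [hconj, mul_inv_rev, swap_inv, swap_inv, mul_assoc, ← mul_assoc (swap c d), swap_mul_self,
    one_mul, swap_comm a b', swap_comm b b']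
  exact isThreeCycle_swap_mul_swap_same (fun h => by rw [h] at hb'1; omega) hb'.2
    (fun h => by rw [h] at hab; omega)

theorem threeCycle_big (hn : 8 ≤ n) (H : Subgroup (Perm (Fin n)))
    (hH : ∀ r ∈ tree n, sign r = 1 → r ∈ H) (u z a b : Fin n) (hz : (z : ℕ) = 0)
    (hu : (u : ℕ) + 1 = n) (hn2 : n % 2 = 1) (hab : a ≠ b)
    (ha0 : a ≠ z) (hau : a ≠ u) (hb0 : b ≠ z) (hbu : b ≠ u)
    (ht : swap u z * swap a b ∈ H) :
    ∃ c ∈ H, IsThreeCycle c := by
  have hab' : (a : ℕ) ≠ b := fun h => hab (Fin.ext h)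
  by_cases h : (a : ℕ) / 2 = (b : ℕ) / 2
  · have han := a.is_lt
    have hbn := b.is_lt
    have hj' : 2 * ((b : ℕ) / 2) + 1 < n := by omega
    have h1 : swap a b ∈ tree n := by
      rcases Nat.mod_two_eq_zero_or_one b with h2 | h2
      · rw [swap_comm]
        convert pairSwap_mem_tree hj' using 2 <;> apply Fin.ext <;> simp only <;> omega
      · convert pairSwap_mem_tree hj' using 2 <;> apply Fin.ext <;> simp only <;> omega
    have h0 : 2 * 0 + 1 < n := by omega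
    set o : Fin n := ⟨2 * 0 + 1, h0⟩ with ho
    have hov : (o : ℕ) = 1 := rfl
    have h2 : swap z o ∈ tree n := by
      convert pairSwap_mem_tree h0 using 2
      apply Fin.ext
      simp only
      omega
    have hzo : z ≠ o := fun h => by rw [h] at hz; omega
    have hs : swap a b * swap z o ∈ H := by
      apply hH _ ((tree n).mul_mem h1 h2)
      rw [Perm.sign_mul, sign_swap hab, sign_swap hzo]
      rfl
    refine ⟨_, H.mul_mem ht hs, ?_⟩
    rw [mul_assoc, ← mul_assoc (swap a b), swap_mul_self, one_mul, swap_comm u z]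
    exact isThreeCycle_swap_mul_swap_same (fun h => by rw [h] at hz; omega) hzo
      (fun h => by rw [h] at hu; omega)
  · by_cases hb1 : (b : ℕ) = 1
    · rw [swap_comm a b] at ht
      exact threeCycle_big_aux hn H hH u z b a hz hu hn2 (Ne.symm h) hb0 hbu ha0 hau (by omega) ht
    · exact threeCycle_big_aux hn H hH u z a b hz hu hn2 h ha0 hau hb0 hbu hb1 ht

/-- For `n = 2 ^ k + 1` with `k ≥ 2`, an overgroup of the even part of the tree group that moves
the last point contains the alternating group. -/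
theorem alt_le_of_moves_last {k : ℕ} (hk : 2 ≤ k) (hn : n = 2 ^ k + 1)
    (H : Subgroup (Perm (Fin n))) (hH : ∀ r ∈ tree n, sign r = 1 → r ∈ H) (u : Fin n)
    (hu : (u : ℕ) + 1 = n) {m : Perm (Fin n)} (hm : m ∈ H) (hmu : m u ≠ u) :
    alternatingGroup (Fin n) ≤ H := by
  have h4 : 4 ≤ 2 ^ k := by
    calc 4 = 2 ^ 2 := by norm_num
      _ ≤ 2 ^ k := Nat.pow_le_pow_right (by norm_num) hk
  have hn2 : n % 2 = 1 := by
    obtain ⟨j, rfl⟩ : ∃ j, k = j + 1 := ⟨k - 1, by omega⟩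
    rw [hn, pow_succ]
    omega
  have h1 : ∀ x y : Fin n, x ≠ u → y ≠ u → ∃ r ∈ H, r x = y ∧ r u = u := by
    intro x y hx hy
    have hx' : (x : ℕ) / 2 ^ k = 0 := by
      apply Nat.div_eq_of_lt
      have := x.is_lt
      have : (x : ℕ) ≠ u := fun h => hx (Fin.ext h)
      omega
    have hy' : (y : ℕ) / 2 ^ k = 0 := by
      apply Nat.div_eq_of_lt
      have := y.is_lt
      have : (y : ℕ) ≠ u := fun h => hy (Fin.ext h)
      omega
    obtain ⟨σ, hσ, hσx, -⟩ := exists_tree_apply_eq (k := k) (x := x) (y := y) (by omega)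
      (by rw [hx']; exact Nat.div_pos (by omega) (by positivity))
    obtain ⟨τ, hτ, hs, hτx⟩ := exists_even_tree_agree_one (by omega) hσ x
    exact ⟨τ, hH τ hτ hs, by rw [hτx, hσx], tree_fix_last hn2 hτ u hu⟩
  have h2 : ∀ x : Fin n, ∃ h ∈ H, h u = x := by
    intro x
    by_cases hx : x = u
    · exact ⟨1, H.one_mem, hx.symm⟩
    · obtain ⟨r, hr, hr', -⟩ := h1 (m u) x hmu hx
      exact ⟨r * m, H.mul_mem hr hm, hr'⟩
  have h3 : ∀ a b c d : Fin n, a ≠ b → c ≠ d → ∃ g ∈ H, g a = c ∧ g b = d := by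
    intro a b c d hab hcd
    obtain ⟨g1, hg1, rfl⟩ := h2 a
    obtain ⟨g2, hg2, rfl⟩ := h2 c
    obtain ⟨r, hr, hr1, hr2⟩ := h1 (g1⁻¹ b) (g2⁻¹ d)
      (fun h => hab (by rw [← h]; simp)) (fun h => hcd (by rw [← h]; simp))
    refine ⟨g2 * r * g1⁻¹, H.mul_mem (H.mul_mem hg2 hr) (H.inv_mem hg1), ?_, ?_⟩
    · simp [hr2]
    · simp only [Perm.mul_apply]
      rw [hr1]
      simp
  have hprim : MulAction.IsPreprimitive H (Fin n) := by
    apply MulAction.isPreprimitive_of_is_two_pretransitive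
    rw [MulAction.is_two_pretransitive_iff]
    intro a b c d hab hcd
    obtain ⟨g, hg, hg'⟩ := h3 a b c d hab hcd
    exact ⟨⟨g, hg⟩, hg'⟩
  have p0 : 2 * 0 + 1 < n := by omega
  have p1 : 2 * 1 + 1 < n := by omega
  set z : Fin n := ⟨2 * 0, by omega⟩ with hz
  set o : Fin n := ⟨2 * 0 + 1, p0⟩ with ho
  set c : Fin n := ⟨2 * 1, by omega⟩ with hc
  set d : Fin n := ⟨2 * 1 + 1, p1⟩ with hd
  have hs : swap z o * swap c d ∈ H := by
    apply hH _ ((tree n).mul_mem (pairSwap_mem_tree p0) (pairSwap_mem_tree p1))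
    rw [Perm.sign_mul, sign_pairSwap p0, sign_pairSwap p1]
    rfl
  have huz : u ≠ z := fun h => by rw [h] at hu; simp only [hz] at hu; omega
  obtain ⟨g, hg, hgz, hgo⟩ := h3 z o u z (by simp [hz, ho]) huz
  have ht := H.mul_mem (H.mul_mem hg hs) (H.inv_mem hg)
  rw [conj_swap_mul_swap, hgz, hgo] at ht
  have q1 : g c ≠ g d := g.injective.ne (by simp [hc, hd])
  have q2 : g c ≠ z := by rw [← hgo]; exact g.injective.ne (by simp [hc, ho])
  have q3 : g c ≠ u := by rw [← hgz]; exact g.injective.ne (by simp [hc, hz])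
  have q4 : g d ≠ z := by rw [← hgo]; exact g.injective.ne (by simp [hd, ho])
  have q5 : g d ≠ u := by rw [← hgz]; exact g.injective.ne (by simp [hd, hz])
  obtain ⟨t, ht1, ht2⟩ : ∃ t ∈ H, IsThreeCycle t := by
    rcases Nat.eq_or_lt_of_le hk with h | h
    · subst h
      obtain rfl : n = 5 := by omega
      obtain rfl : u = 4 := Fin.ext (by change (u : ℕ) = 4; omega)
      exact threeCycle_five H hH _ _ q1 q2 q3 q4 q5 ht
    · have h8 : 8 ≤ 2 ^ k := by
        calc 8 = 2 ^ 3 := by norm_num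
          _ ≤ 2 ^ k := Nat.pow_le_pow_right (by norm_num) h
      exact threeCycle_big (by omega) H hH u z _ _ rfl hu hn2 q1 q2 q3 q4 q5 ht
  exact alternatingGroup_le_of_isPreprimitive_of_isThreeCycle_mem hprim ht2 ht1

/-- A subgroup containing all the 3-cycles through two given points contains the alternating
group. -/
theorem alt_le_of_swap_mul_swap_mem {α : Type*} [Fintype α] [DecidableEq α]
    (H : Subgroup (Perm α)) {a b : α}
    (h : ∀ x, x ≠ a → x ≠ b → swap a b * swap a x ∈ H) : alternatingGroup α ≤ H := by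
  have h1 : ∀ x, x ≠ a → swap a b * swap a x ∈ H := by
    intro x hx
    by_cases hb : x = b
    · rw [hb, swap_mul_self]; exact H.one_mem
    · exact h x hx hb
  have h2 : ∀ u v, u ≠ v → swap a b * swap u v ∈ H := by
    intro u v huv
    by_cases hu : u = a
    · subst hu; exact h1 v huv.symm
    by_cases hv : v = a
    · subst hv; rw [swap_comm u v]; exact h1 u hu
    have e : swap u v = swap a u * swap a v * swap a u := by
      rw [swap_comm a v, swap_mul_swap_mul_swap hv huv.symm]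
    have := H.mul_mem (H.mul_mem (h1 u hu) (H.inv_mem (h1 v hv))) (h1 u hu)
    convert this using 1
    rw [e, mul_inv_rev, swap_inv, swap_inv]
    simp only [mul_assoc, swap_mul_self_mul]
  rw [← closure_three_cycles_eq_alternating, closure_le]
  intro g hg
  have hg' : IsThreeCycle g := hg
  obtain ⟨x, hx⟩ : g.support.Nonempty := by
    rw [← Finset.card_pos, hg'.card_support]; norm_num
  have hx1 : g x ≠ x := mem_support.1 hx
  have := H.mul_mem (H.inv_mem (h2 x (g x) hx1.symm)) (h2 (g x) (g (g x)) (g.injective.ne hx1.symm))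
  rw [mul_inv_rev, swap_inv, swap_inv, mul_assoc, swap_mul_self_mul,
    ← hg'.eq_swap_mul_swap_iff_mem_support.2 hx] at this
  exact this

end Cfsg.Agent.SymAlt
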